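import Groth.Agent.EtArtinLib.Main
import Groth.Agent.EtCurveConsLib.Fibre

/-!
# Cohomological dimension of nearby fibres
-/

set_option autoImplicit false
set_option linter.all false
set_option backward.isDefEq.respectTransparency false
set_option backward.isDefEq.respectTransparency.types false
set_option synthInstance.maxHeartbeats 400000
set_option maxHeartbeats 1000000

universe u

open CategoryTheory CategoryTheory.Limits AlgebraicGeometry Opposite
open Groth.Agent Groth.Agent.EtShLib EtPBCProperLib SkySumLib

attribute [local instance] EtSliceLib.pullExact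

noncomputable section

namespace NearbyCdLib

variable {V K Ω : Type u} [CommRing V] [IsDomain V] [Field K] [Algebra V K] [IsFractionRing V K]
  [Field Ω] [Algebra K Ω] [Algebra V Ω] [IsScalarTower V K Ω]
  {X : Scheme.{u}} (f : X ⟶ Spec (CommRingCat.of V))

/-- Residue degrees over the base at points of the generic fibre. -/
theorem resTrdeg_le_of_generic [LocallyOfFiniteType f] {n : ℕ}
    (hn : topologicalKrullDim ↥(pullback f (Spec.map (CommRingCat.ofHom (algebraMap V K)))) ≤ n)
    (x : X) (hx : f x ∈ Set.range (Spec.map (CommRingCat.ofHom (algebraMap V K))).base) :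
    Dual3.resTrdeg f x ≤ n := by
  let s := Spec.map (CommRingCat.ofHom (algebraMap V K))
  haveI : IsPreimmersion s := IsPreimmersion.of_isLocalization (nonZeroDivisors V)
  obtain ⟨p, hp⟩ := hx
  obtain ⟨w, hw, -⟩ := Scheme.Pullback.exists_preimage_pullback (f := f) (g := s) x p hp.symm
  have h1 : Dual3.resTrdeg (pullback.fst f s ≫ f) w = Dual3.resTrdeg (pullback.snd f s ≫ s) w := by
    rw [pullback.condition]
  rw [AlgSpLib.resTrdeg_comp (pullback.fst f s) f, AlgSpLib.resTrdeg_comp (pullback.snd f s) s,
    CycPushLib.trdeg_preimmersion_left (pullback.fst f s), CycPushLib.trdeg_preimmersion_left s,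
    add_zero, zero_add] at h1
  have h2 : Dual3.resTrdeg (pullback.snd f s) w ≤ n :=
    (EtArtinLib.closureDim_le_iff _ w n).1
      ((topologicalKrullDim_subspace_le _ _).trans hn)
  rw [← hw]
  exact h1.le.trans h2

variable [IsSepClosed Ω]

/-- The fibre over a separably closed field of a strictly local scheme of `X` has cohomological
dimension bounded by that of the generic fibre. -/
theorem cohDimLE_nearby [LocallyOfFiniteType f] {n : ℕ}
    (hn : topologicalKrullDim ↥(pullback f (Spec.map (CommRingCat.ofHom (algebraMap V K)))) ≤ n)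
    (x : X) (R : Type u) [CommRing R] [IsLocalRing R] [Algebra (X.presheaf.stalk x) R]
    [IsLocalHom (algebraMap (X.presheaf.stalk x) R)] [Hensel.IsStrictHenselization (X.presheaf.stalk x) R]
    {W : Scheme.{u}} [IsAffine W] (a : W ⟶ Spec (CommRingCat.of R)) (b : W ⟶ Spec (CommRingCat.of Ω))
    (h : IsPullback a b (Hens2.specOf X x R ≫ f) (Spec.map (CommRingCat.ofHom (algebraMap V Ω)))) :
    EtCoh.CohDimLE W n := by
  let v := Spec.map (CommRingCat.ofHom (algebraMap V Ω))
  have hv : v = Spec.map (CommRingCat.ofHom (algebraMap K Ω)) ≫ Spec.map (CommRingCat.ofHom (algebraMap V K)) := by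
    rw [← Spec.map_comp, ← CommRingCat.ofHom_comp, ← IsScalarTower.algebraMap_eq V K Ω]
  have key : ∀ z : ↑(pullback (Hens2.specOf X x R ≫ f) v),
      Dual3.resTrdeg (pullback.snd (Hens2.specOf X x R ≫ f) v) z ≤ n := fun z => by
    refine (FlatDimLib.resTrdeg_snd_le z).trans ?_
    rw [AlgSpLib.resTrdeg_comp (Hens2.specOf X x R) f, EtArtinLib.resTrdeg_specOf, add_zero]
    refine resTrdeg_le_of_generic f hn _
      ⟨Spec.map (CommRingCat.ofHom (algebraMap K Ω)) (pullback.snd (Hens2.specOf X x R ≫ f) v z), ?_⟩
    rw [← Scheme.Hom.comp_apply, ← hv, ← Scheme.Hom.comp_apply, ← Scheme.Hom.comp_apply,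
      ← Scheme.Hom.comp_apply, pullback.condition]
  have hW : ∀ w : W, Dual3.resTrdeg b w ≤ n := fun w => by
    have h1 : Dual3.resTrdeg b w = Dual3.resTrdeg (h.isoPullback.hom ≫ pullback.snd (Hens2.specOf X x R ≫ f) v) w := by
      rw [h.isoPullback_hom_snd]
    rw [h1, AlgSpLib.resTrdeg_comp, CycPushLib.trdeg_preimmersion_left h.isoPullback.hom, add_zero]
    exact key _
  exact EtArtinLib.cohDimLE_algebra (EtArtinLib.artin n) Ω (EtArtinLib.cohDimLE_sepClosed Ω) b hW

end NearbyCdLib
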