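import Groth.Agent.EtArtinLib.Main
import Groth.Agent.EtSmAcycLib.Field
import Groth.Agent.CdFieldLib.Killed

/-!
# Artin vanishing over fields of `l`-cohomological dimension `e`
-/

set_option autoImplicit false
set_option linter.all false
set_option backward.isDefEq.respectTransparency false
set_option backward.isDefEq.respectTransparency.types false
set_option synthInstance.maxHeartbeats 400000
set_option maxHeartbeats 1000000

universe u

open CategoryTheory CategoryTheory.Limits CategoryTheory.Abelian AlgebraicGeometry Opposite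
open Groth.Agent Groth.Agent.EtShLib EtPBCProperLib SkySumLib CdFieldLib

attribute [local instance] EtSliceLib.pullExact

noncomputable section

namespace NearbyCdLib

theorem nsmul_id_Rpush {X S : Scheme.{u}} (f : X ⟶ S) {F : EtCoh.Ab X} {l : ℕ} (hF : l • 𝟙 F = 0) (q : ℕ) :
    l • 𝟙 ((EtCoh.Rpush f q).obj F) = 0 :=
  CdPrimeLib.nsmul_id_map ((EtCoh.push f).rightDerived q) hF

theorem cdK_ft {n : ℕ} (hP : EtArtinLib.Artin.{u} n) (K : Type u) [Field K] {l e : ℕ} (hl : 0 < l)
    (hK : CdK (Spec (CommRingCat.of K)) l e) {U : Scheme.{u}} [IsAffine U]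
    (f : U ⟶ Spec (CommRingCat.of K)) [LocallyOfFiniteType f] (hdim : topologicalKrullDim U ≤ n) :
    CdK U l (n + e) := by
  intro F hFl q hq
  have hF : EtCoh.IsTorsion F := CdOneLib.isTorsion_of_nsmul_id l hl hFl
  haveI : QuasiCompact f := inferInstance
  haveI : QuasiSeparated f := inferInstance
  haveI : (EtCoh.push f).Additive := { }
  refine CdLerayBoundLib.subsingleton_H_of_Rpush f e n F (fun j hj => ?_)
    (fun j _ m hm => hK _ (nsmul_id_Rpush f hFl j) m hm) q hq
  refine isZero_of_geomPt_stalks _ fun y => ?_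
  let R := HenselLib.SH ((Spec (CommRingCat.of K)).presheaf.stalk y)
  have hS : Hensel.IsStrictHenselization ((Spec (CommRingCat.of K)).presheaf.stalk y) R := inferInstance
  haveI := hS.henselian
  haveI hsep : IsSepClosed (IsLocalRing.ResidueField R) := hS.isSepClosure.sep_closed
  refine ⟨R, inferInstance, inferInstance, inferInstance, inferInstance, inferInstance, ?_⟩
  obtain ⟨i⟩ := Groth.Agent.S0620.result f F y R j
  refine i.addCommGroupIsoToAddEquiv.toEquiv.subsingleton_congr.2 ?_
  have hR0 : IsField R := CdFieldLib.isField_strictHenselization _ R (CdFieldLib.isField_stalk y)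
  obtain ⟨φ, hφ⟩ := Spec.map_surjective (Hens2.specOf (Spec (CommRingCat.of K)) y R)
  let Fd : Field R := hR0.toField
  haveI : IsSepClosed R := @CdFieldLib.isSepClosed_of_isField R Fd hsep
  letI : Algebra K R := φ.hom.toAlgebra
  let v := Hens2.specOf (Spec (CommRingCat.of K)) y R
  haveI : IsAffine (pullback f v) := inferInstance
  have hd : topologicalKrullDim ↑(pullback f v) ≤ n := by
    rw [show v = Spec.map φ from hφ.symm]
    exact (FibDimLib.topologicalKrullDim_pullback_field K R f).trans_le hdim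
  exact hP R (pullback f v) (pullback.snd f v) hd _ (CdCurveLib.isTorsion_pull_map _ hF) j hj

theorem cdK_spec {n : ℕ} (hP : EtArtinLib.Artin.{u} n) (K : Type u) [Field K] {l e : ℕ} (hl : 0 < l)
    (hK : CdK (Spec (CommRingCat.of K)) l e) (A : Type u) [CommRing A] [Algebra K A]
    {W : Scheme.{u}} (ew : W ≅ Spec (CommRingCat.of A)) (ψ : W ⟶ Spec (CommRingCat.of K))
    (hψ : ew.hom ≫ Spec.map (CommRingCat.ofHom (algebraMap K A)) = ψ)
    (hW : ∀ w : W, Dual3.resTrdeg ψ w ≤ n) : CdK W l (n + e) := by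
  let S := ConsLib.fgSys K A (Iso.refl (Spec (CommRingCat.of K)))
  haveI : ∀ {i j : (ConsLib.FGSub K A)ᵒᵖ} (a : i ⟶ j), IsAffineHom (S.D.map a) := fun a => S.affine_map a
  haveI : ∀ i, CompactSpace (S.D.obj i) := S.compactSpace_obj
  haveI : ∀ i, QuasiSeparatedSpace (S.D.obj i) := S.quasiSeparatedSpace_obj
  refine CdFieldLib.cdK_limit S.D (S.c.extend ew.hom) (S.hc.extendIso ew.hom) fun i => ?_
  haveI : IsAffine (S.D.obj i) := inferInstanceAs (IsAffine (Spec (CommRingCat.of i.unop.1)))
  haveI := ConsLib.locallyOfFiniteType_fgSys_t K A (Iso.refl (Spec (CommRingCat.of K))) i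
  refine cdK_ft hP K hl hK (S.t i) (FibDimLib.topologicalKrullDim_le_of_points fun x => ?_)
  exact EtArtinLib.dim_closure_le i.unop.1 ew ψ hψ hW (S.t i) (by exact Category.comp_id _) x

theorem cdK_algebra {n : ℕ} (hP : EtArtinLib.Artin.{u} n) (K : Type u) [Field K] {l e : ℕ} (hl : 0 < l)
    (hK : CdK (Spec (CommRingCat.of K)) l e) {W : Scheme.{u}} [IsAffine W]
    (ψ : W ⟶ Spec (CommRingCat.of K)) (hW : ∀ w : W, Dual3.resTrdeg ψ w ≤ n) : CdK W l (n + e) := by
  obtain ⟨φ, hφ⟩ := Spec.map_surjective (W.isoSpec.inv ≫ ψ)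
  exact @cdK_spec n hP K _ l e hl hK Γ(W, ⊤) _ φ.hom.toAlgebra W W.isoSpec ψ ((Iso.eq_inv_comp _).1 hφ) hW

/-- Fields in all whose finite separable extensions every element is an `l`-th power. -/
theorem cdK_zero (M : Type u) [Field M] {l : ℕ} (hl : l.Prime) (hu : (l : M) ≠ 0)
    (ζ : M) (hζ : Polynomial.aeval ζ (Polynomial.cyclotomic l ℤ) = 0)
    (hroot : ∀ (L : Type u) [Field L] [Algebra M L] [FiniteDimensional M L] [Algebra.IsSeparable M L] (a : L),
      ∃ b : L, b ^ l = a) :
    CdK (Spec (CommRingCat.of M)) l 0 := by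
  haveI : Fact l.Prime := ⟨hl⟩
  haveI : NeZero l := ⟨hl.ne_zero⟩
  have hP : CdOneLib.HypP M l 1 := fun L _ _ _ _ _ =>
    EtSmAcycLib.subsingleton_H1_const_of_roots (Field.toIsField L) l
      (by rw [← map_natCast (algebraMap M L)]; exact (map_ne_zero _).2 hu) (algebraMap M L ζ)
      (by rw [Polynomial.aeval_def, ← Polynomial.eval_map, Polynomial.map_cyclotomic]
          rw [Polynomial.aeval_def, ← Polynomial.eval_map, Polynomial.map_cyclotomic] at hζ
          rw [← Polynomial.map_cyclotomic l (algebraMap M L), Polynomial.eval_map, Polynomial.eval₂_at_apply, hζ,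
            map_zero]) (hroot L)
  intro F hF q hq
  refine subsingleton_of_forall_eq 0 fun x => ?_
  exact CdOneLib.pcd_le l hP F (CdOneLib.isTorsion_of_nsmul_id l hl.pos hF) q hq x
    ⟨1, by rw [pow_one]; exact CdOneLib.nsmul_ext l hF x⟩

end NearbyCdLib
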