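import Mathlib
import Groth.Agent.HenselKummerLib.Basic
import Groth.Agent.HensGRingLib.J2
import Groth.Agent.HenselBranchLib.IntegralHens

/-!
# Roots in extensions of strictly henselian discretely valued fields; relatively closed subfields
-/

set_option autoImplicit false
set_option linter.all false
set_option maxHeartbeats 1000000

universe u

open Polynomial IsLocalRing TensorProduct

noncomputable section

namespace NearbyCdLib

theorem exists_pow_eq_of_coprime {F : Type*} [Field F] {a : F} {l m : ℕ} (hl : l ≠ 0)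
    (h : Nat.Coprime l m) (hm : ∃ c : F, c ^ l = a ^ m) : ∃ b : F, b ^ l = a := by
  obtain ⟨c, hc⟩ := hm
  rcases eq_or_ne a 0 with rfl | ha
  · exact ⟨0, by rw [zero_pow hl]⟩
  have hb := Nat.gcd_eq_gcd_ab l m
  rw [Nat.coprime_iff_gcd_eq_one.1 h, Nat.cast_one] at hb
  refine ⟨a ^ Nat.gcdA l m * c ^ Nat.gcdB l m, ?_⟩
  rw [mul_pow, ← zpow_natCast (a ^ Nat.gcdA l m), ← zpow_natCast (c ^ Nat.gcdB l m), ← zpow_mul, ← zpow_mul]
  rw [mul_comm (Nat.gcdB l m) (l : ℤ), zpow_mul c, zpow_natCast c, hc, ← zpow_natCast a m, ← zpow_mul,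
    ← zpow_add₀ ha, mul_comm (Nat.gcdA l m) (l : ℤ), ← hb, zpow_one]

/-- In a field over a strictly henselian discretely valued field containing all `l`-power roots of a
uniformizer, in which roots of unity of `l`-power order are `l`-th powers, separable elements are `l`-th
powers. -/
theorem exists_root_of_separable {V' : Type u} [CommRing V'] [IsDomain V'] [IsDiscreteValuationRing V']
    [HenselianLocalRing V'] [IsSepClosed (ResidueField V')] {l : ℕ} (hl : l.Prime)
    (hu : (l : ResidueField V') ≠ 0) {ϖ : V'} (hϖ : Irreducible ϖ) {F : Type u} [Field F] [Algebra V' F]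
    [IsFractionRing V' F] {L : Type u} [Field L] [Algebra F L]
    (hπ : ∀ s : ℕ, ∃ ρ : L, ρ ^ (l ^ s) = algebraMap F L (algebraMap V' F ϖ))
    (hμ : ∀ (s : ℕ) (z : L), z ^ (l ^ s) = 1 → ∃ y : L, y ^ l = z)
    (a : L) (ha : IsSeparable F a) : ∃ b : L, b ^ l = a := by
  rcases eq_or_ne a 0 with rfl | ha0
  · exact ⟨0, by rw [zero_pow hl.ne_zero]⟩
  let L1 := IntermediateField.adjoin F ({a} : Set L)
  haveI : FiniteDimensional F L1 := IntermediateField.adjoin.finiteDimensional ha.isIntegral
  haveI : Algebra.IsSeparable F L1 := (IntermediateField.isSeparable_adjoin_simple_iff_isSeparable F L).2 ha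
  letI : Algebra V' L1 := ((algebraMap F L1).comp (algebraMap V' F)).toAlgebra
  haveI : IsScalarTower V' F L1 := IsScalarTower.of_algebraMap_eq fun _ => rfl
  have hinjL : Function.Injective (algebraMap V' L1) :=
    (algebraMap F L1).injective.comp (IsFractionRing.injective V' F)
  let S := integralClosure V' L1
  haveI : Module.Finite V' S := IsIntegralClosure.finite V' F L1 S
  haveI : IsDedekindDomain S := IsIntegralClosure.isDedekindDomain V' F L1 S
  haveI : IsLocalRing S := HensGRingLib.isLocalRing_of_finite_domain V' S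
  haveI : HenselianLocalRing S := HenselBranchLib.henselianLocalRing_of_isIntegral' V' S
  haveI : IsFractionRing S L1 := integralClosure.isFractionRing_of_finite_extension F L1
  have hSinj : Function.Injective (algebraMap V' S) := fun x y h =>
    hinjL (congrArg Subtype.val h)
  haveI : FaithfulSMul V' S := (faithfulSMul_iff_algebraMap_injective V' S).2 hSinj
  haveI : IsLocalHom (algebraMap V' S) :=
    RingHom.IsIntegral.isLocalHom (Algebra.IsIntegral.isIntegral (R := V') (A := S)) hSinj
  have hnf : ¬ IsField S := fun hf => IsDiscreteValuationRing.not_isField V' <| by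
    exact isField_of_isIntegral_of_isField hSinj hf
  haveI : IsDiscreteValuationRing S := ((IsDiscreteValuationRing.TFAE S hnf).out 0 2).mpr (inferInstance : IsDedekindDomain _)
  obtain ⟨t, ht⟩ := IsDiscreteValuationRing.exists_irreducible S
  obtain ⟨e, w, hw⟩ := IsDiscreteValuationRing.eq_unit_mul_pow_irreducible
    (show algebraMap V' S ϖ ≠ 0 from fun h => hϖ.ne_zero (hSinj (h.trans (map_zero _).symm))) ht
  have he : e ≠ 0 := fun h => hϖ.not_isUnit <| by
    rw [h, pow_zero, mul_one] at hw
    exact isUnit_of_map_unit (algebraMap V' S) ϖ (hw ▸ w.isUnit)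
  -- write a ^ e as (uniformizer power) * unit
  obtain ⟨x, y, hy, hxy⟩ := IsFractionRing.div_surjective (A := S) (⟨a, IntermediateField.mem_adjoin_simple_self F a⟩ : L1)
  have hy0 : y ≠ 0 := nonZeroDivisors.ne_zero hy
  have hx0 : x ≠ 0 := fun h => ha0 <| by
    rw [h, map_zero, zero_div] at hxy
    exact congrArg Subtype.val hxy.symm
  obtain ⟨i, u, rfl⟩ := IsDiscreteValuationRing.eq_unit_mul_pow_irreducible hx0 ht
  obtain ⟨j, v, rfl⟩ := IsDiscreteValuationRing.eq_unit_mul_pow_irreducible hy0 ht
  let φ : S →+* L := L1.val.toRingHom.comp (algebraMap S L1)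
  have hφu : ∀ z : Sˣ, φ z ≠ 0 := fun z => (z.map (φ : S →* L)).ne_zero
  have hφt : φ t ≠ 0 := fun h => ht.ne_zero <| by
    have h1 : algebraMap S L1 t = 0 := Subtype.ext h
    exact (map_eq_zero_iff _ (IsFractionRing.injective S L1)).1 h1
  have hφϖ : φ (algebraMap V' S ϖ) = algebraMap F L (algebraMap V' F ϖ) := rfl
  have hA : a * (φ v * φ t ^ j) = φ u * φ t ^ i := by
    rw [← map_pow, ← map_pow, ← map_mul, ← map_mul]
    have h2 := congrArg (L1.val.toRingHom) hxy
    rw [map_div₀, div_eq_iff] at h2
    · exact h2.symm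
    · exact (map_mul φ (v : S) (t ^ j)).trans_ne (mul_ne_zero (hφu v) (by rw [map_pow]; exact pow_ne_zero _ hφt))
  -- split off the l-part of e
  obtain ⟨s, e', he', rfl⟩ := Nat.exists_eq_pow_mul_and_not_dvd he l hl.ne_one
  have key : ∀ z : Sˣ, ∃ c : L, c ^ (l ^ (s + 1)) = φ z := fun z => by
    have hN : ((l ^ (s + 1) : ℕ) : ResidueField S) ≠ 0 := by
      rw [Nat.cast_pow]
      refine pow_ne_zero _ ?_
      rw [← map_natCast (ResidueField.map (algebraMap V' S)) l]
      exact (_root_.map_ne_zero _).2 hu
    haveI : Algebra.IsAlgebraic (ResidueField V') (ResidueField S) := by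
      haveI : Module.Finite (ResidueField V') (ResidueField S) := ResidueField.finite_of_module_finite
      infer_instance
    obtain ⟨n, c, hc⟩ := IsPurelyInseparable.pow_mem (ResidueField V') (ringExpChar (ResidueField V')) (residue S z)
    haveI : NeZero ((l ^ (s + 1) : ℕ) : ResidueField V') := ⟨by rw [Nat.cast_pow]; exact pow_ne_zero _ hu⟩
    obtain ⟨d, hd⟩ := IsSepClosed.exists_pow_nat_eq c (l ^ (s + 1))
    have hcop : Nat.Coprime (l ^ (s + 1)) (ringExpChar (ResidueField V') ^ n) := by
      refine Nat.Coprime.pow _ _ ?_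
      rcases expChar_is_prime_or_one (ResidueField V') (ringExpChar (ResidueField V')) with h | h
      · refine (Nat.coprime_primes hl h).2 fun heq => hu ?_
        rcases (inferInstance : ExpChar (ResidueField V') (ringExpChar (ResidueField V'))).casesOn
          (motive := fun q _ => q = 1 ∨ (q : ResidueField V') = 0) (Or.inl rfl) (fun {q} hq hc => Or.inr (CharP.cast_eq_zero _ q)) with h1 | h1
        · exact absurd h1 h.ne_one
        · rw [heq]; exact h1
      · rw [h]; exact Nat.coprime_one_right _
    obtain ⟨r, hr⟩ := exists_pow_eq_of_coprime (a := residue S (z : S)) (pow_ne_zero (s + 1) hl.ne_zero) hcop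
      ⟨algebraMap _ _ d, by rw [← map_pow, hd, hc]⟩
    obtain ⟨r₀, rfl⟩ := residue_surjective r
    obtain ⟨q, hq, -⟩ := HenselKummerLib.exists_pow_eq hN (z : S) z.isUnit r₀ hr
    exact ⟨φ q, by rw [← map_pow, hq]⟩
  obtain ⟨ρ, hρ⟩ := hπ (s + 1)
  obtain ⟨cw, hcw⟩ := key w
  obtain ⟨cu, hcu⟩ := key u
  obtain ⟨cv, hcv⟩ := key v
  have hρe : (ρ / cw) ^ (l ^ (s + 1)) = φ t ^ (l ^ s * e') := by
    rw [div_pow, hρ, hcw, ← hφϖ, hw, map_mul, map_pow, mul_div_cancel_left₀ _ (hφu w)]
  have hN0 : l ^ (s + 1) ≠ 0 := pow_ne_zero _ hl.ne_zero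
  have hc0 : cv ≠ 0 := fun h => hφu v (by rw [← hcv, h, zero_pow hN0])
  have hr0 : ρ / cw ≠ 0 := fun h => by
    rw [h, zero_pow hN0] at hρe
    exact (pow_ne_zero _ hφt) hρe.symm
  let E := l ^ s * e'
  -- a ^ E is an l^(s+1)-th power
  let C := cu ^ E * (ρ / cw) ^ i / (cv ^ E * (ρ / cw) ^ j)
  have hC : C ^ (l ^ (s + 1)) = a ^ E := by
    have h1 : ∀ (c : L) (z : L) (k : ℕ), c ^ (l ^ (s + 1)) = z → (c ^ k) ^ (l ^ (s + 1)) = z ^ k := fun c z k h => by
      rw [← pow_mul, mul_comm, pow_mul, h]
    show (cu ^ E * (ρ / cw) ^ i / (cv ^ E * (ρ / cw) ^ j)) ^ (l ^ (s + 1)) = a ^ E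
    rw [div_pow, mul_pow, mul_pow, h1 cu _ E hcu, h1 cv _ E hcv, h1 _ _ i hρe, h1 _ _ j hρe, div_eq_iff
      (mul_ne_zero (pow_ne_zero _ (hφu v)) (pow_ne_zero _ (pow_ne_zero _ hφt)))]
    have h5 := congrArg (fun q : L => q ^ E) hA
    simp only [mul_pow, ← pow_mul] at h5 ⊢
    rw [mul_comm (l ^ s * e') i, mul_comm (l ^ s * e') j]
    simpa [E] using h5.symm
  have hC0 : C ≠ 0 := fun h => (pow_ne_zero E ha0) (by rw [← hC, h, zero_pow hN0])
  have hz : (a ^ e' / C ^ l) ^ (l ^ s) = 1 := by
    rw [div_pow, ← pow_mul, ← pow_mul, mul_comm e' (l ^ s), ← pow_succ', hC, div_self (pow_ne_zero _ ha0)]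
  obtain ⟨ζ, hζ⟩ := hμ s _ hz
  refine exists_pow_eq_of_coprime hl.ne_zero ((Nat.Prime.coprime_iff_not_dvd hl).2 he') ⟨ζ * C, ?_⟩
  rw [mul_pow, hζ, div_mul_cancel₀ _ (pow_ne_zero _ hC0)]

/-- A discrete valuation ring with the same uniformizer in a bigger one and relatively algebraically
closed residue field is relatively closed for separable elements. -/
theorem mem_range_of_separable {V V' : Type u} [CommRing V] [IsDomain V] [IsDiscreteValuationRing V]
    [HenselianLocalRing V] [CommRing V'] [IsDomain V'] [IsDiscreteValuationRing V'] (θ : V →+* V') [IsLocalHom θ]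
    {π : V} (hπ : Irreducible π) (hπ' : Irreducible (θ π))
    (hres : ∀ z : ResidueField V', (letI := (ResidueField.map θ).toAlgebra; IsIntegral (ResidueField V) z) →
      z ∈ Set.range (ResidueField.map θ))
    {K K' : Type u} [Field K] [Algebra V K] [IsFractionRing V K] [Field K'] [Algebra V' K'] [IsFractionRing V' K']
    [Algebra K K'] (hcomp : ∀ v, algebraMap K K' (algebraMap V K v) = algebraMap V' K' (θ v))
    (α : K') (hα : IsSeparable K α) : α ∈ Set.range (algebraMap K K') := by
  let L := IntermediateField.adjoin K ({α} : Set K')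
  haveI : FiniteDimensional K L := IntermediateField.adjoin.finiteDimensional hα.isIntegral
  haveI : Algebra.IsSeparable K L := (IntermediateField.isSeparable_adjoin_simple_iff_isSeparable K K').2 hα
  letI : Algebra V L := ((algebraMap K L).comp (algebraMap V K)).toAlgebra
  haveI : IsScalarTower V K L := IsScalarTower.of_algebraMap_eq fun _ => rfl
  letI : Algebra V V' := θ.toAlgebra
  let B := integralClosure V L
  have hinjL : Function.Injective (algebraMap V L) :=
    (algebraMap K L).injective.comp (IsFractionRing.injective V K)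
  haveI : Module.Finite V B := IsIntegralClosure.finite V K L B
  haveI : IsDedekindDomain B := IsIntegralClosure.isDedekindDomain V K L B
  haveI : IsLocalRing B := HensGRingLib.isLocalRing_of_finite_domain V B
  have hBinj : Function.Injective (algebraMap V B) := fun x y h => hinjL (congrArg Subtype.val h)
  haveI : IsLocalHom (algebraMap V B) :=
    RingHom.IsIntegral.isLocalHom (Algebra.IsIntegral.isIntegral (R := V) (A := B)) hBinj
  have hnf : ¬ IsField B := fun hf => IsDiscreteValuationRing.not_isField V
    (isField_of_isIntegral_of_isField hBinj hf)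
  haveI : IsDiscreteValuationRing B := ((IsDiscreteValuationRing.TFAE B hnf).out 0 2).mpr (inferInstance : IsDedekindDomain _)
  haveI : IsFractionRing B L := integralClosure.isFractionRing_of_finite_extension K L
  -- B maps into V'
  letI : Algebra V K' := ((algebraMap V' K').comp θ).toAlgebra
  haveI : IsScalarTower V V' K' := IsScalarTower.of_algebraMap_eq fun _ => rfl
  have hmem : ∀ b : B, ∃ x : V', algebraMap V' K' x = ((b : L) : K') := fun b => by
    have h1 : IsIntegral V ((b : L) : K') := by
      refine IsIntegral.map (B := L) (A := V) ({ L.val.toRingHom with commutes' := fun v => ?_ } : L →ₐ[V] K') b.2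
      exact hcomp v
    exact IsIntegrallyClosed.algebraMap_eq_of_integral (h1.tower_top (A := V'))
  choose f hf using hmem
  have hinj' : Function.Injective (algebraMap V' K') := IsFractionRing.injective V' K'
  let ι : B →+* V' :=
    { toFun := f
      map_one' := hinj' (by rw [hf, map_one]; rfl)
      map_mul' := fun x y => hinj' (by rw [map_mul, hf, hf, hf]; rfl)
      map_zero' := hinj' (by rw [hf, map_zero]; rfl)
      map_add' := fun x y => hinj' (by rw [map_add, hf, hf, hf]; rfl) }
  have hι : ∀ v, ι (algebraMap V B v) = θ v := fun v => hinj' (by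
    show algebraMap V' K' (f (algebraMap V B v)) = _
    rw [hf]; exact hcomp v)
  -- maximal ideal of B
  have hmB : maximalIdeal B = Ideal.span {algebraMap V B π} := by
    obtain ⟨t, ht⟩ := IsDiscreteValuationRing.exists_irreducible B
    obtain ⟨e, w, hw⟩ := IsDiscreteValuationRing.eq_unit_mul_pow_irreducible
      (show algebraMap V B π ≠ 0 from fun h => hπ.ne_zero (hBinj (h.trans (map_zero _).symm))) ht
    have h2 := congrArg ι hw
    rw [hι, map_mul, map_pow] at h2
    rcases hπ'.isUnit_or_isUnit h2 with h3 | h3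
    · have he1 : e = 1 := by
        by_contra he
        rcases Nat.lt_or_ge e 1 with he0 | he2
        · refine hπ'.not_isUnit ?_
          rw [h2, show e = 0 by omega, pow_zero, mul_one]
          exact h3
        · obtain ⟨c, rfl⟩ : ∃ c, e = c + 2 := ⟨e - 2, by omega⟩
          have h4 : θ π = ι t * (ι w * ι t ^ (c + 1)) := by rw [h2]; ring
          rcases hπ'.isUnit_or_isUnit h4 with h5 | h5
          · exact hπ'.not_isUnit (h2 ▸ h3.mul (h5.pow _))
          · exact hπ'.not_isUnit (h2 ▸ h3.mul (((isUnit_pow_iff (Nat.succ_ne_zero c)).1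
              (isUnit_of_mul_isUnit_right h5)).pow _))
      rw [he1, pow_one] at hw
      rw [hw, Ideal.span_singleton_mul_left_unit w.isUnit, ht.maximalIdeal_eq]
    · rcases Nat.eq_zero_or_pos e with he | he
      · exact absurd (isUnit_of_map_unit (algebraMap V B) π (by rw [hw, he, pow_zero, mul_one]; exact w.isUnit))
          hπ.not_isUnit
      · exact absurd (h2 ▸ (w.isUnit.map ι).mul h3) hπ'.not_isUnit
  have hιloc : IsLocalHom ι := ⟨fun b hb => by
    by_contra hn
    obtain ⟨c, hc⟩ := Ideal.mem_span_singleton'.1 (hmB ▸ (mem_maximalIdeal b).2 hn)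
    rw [← hc, map_mul, hι] at hb
    exact hπ'.not_isUnit (isUnit_of_mul_isUnit_right hb)⟩
  haveI := hιloc
  -- residue field of B
  have hsurj : ∀ b : B, ∃ v : V, b - algebraMap V B v ∈ maximalIdeal B := fun b => by
    letI := (ResidueField.map θ).toAlgebra
    let g : ResidueField B →ₐ[ResidueField V] ResidueField V' :=
      { ResidueField.map ι with
        commutes' := fun c => by
          obtain ⟨v, rfl⟩ := residue_surjective c
          show ResidueField.map ι (residue B (algebraMap V B v)) = ResidueField.map θ (residue V v)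
          rw [ResidueField.map_residue, ResidueField.map_residue, hι] }
    haveI : Module.Finite (ResidueField V) (ResidueField B) := ResidueField.finite_of_module_finite
    haveI : IsScalarTower (ResidueField V) (ResidueField V) (ResidueField V') := IsScalarTower.of_algebraMap_eq fun _ => rfl
    obtain ⟨c, hc⟩ := hres (g (residue B b)) ((IsIntegral.of_finite _ _).map g)
    obtain ⟨v, rfl⟩ := residue_surjective c
    refine ⟨v, (residue_eq_zero_iff _).1 ?_⟩
    rw [map_sub, sub_eq_zero]
    exact g.toRingHom.injective (hc.symm.trans (g.commutes (residue V v)).symm)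
  have htop : (⊤ : Submodule V B) ≤ LinearMap.range (Algebra.linearMap V B) := by
    refine Submodule.le_of_le_smul_of_le_jacobson_bot (Module.Finite.fg_top)
      (maximalIdeal_le_jacobson _) fun b _ => ?_
    obtain ⟨v, hv⟩ := hsurj b
    rw [hmB] at hv
    obtain ⟨c, hc⟩ := Ideal.mem_span_singleton'.1 hv
    refine Submodule.mem_sup.2 ⟨algebraMap V B v, ⟨v, rfl⟩, b - algebraMap V B v, ?_, add_sub_cancel _ _⟩
    rw [← hc, mul_comm, ← Algebra.smul_def]
    exact Submodule.smul_mem_smul (by rw [hπ.maximalIdeal_eq]; exact Ideal.mem_span_singleton_self π) trivial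
  obtain ⟨x, y, -, hxy⟩ := IsFractionRing.div_surjective (A := B) (⟨α, IntermediateField.mem_adjoin_simple_self K α⟩ : L)
  obtain ⟨xv, rfl⟩ := htop (Submodule.mem_top (x := x))
  obtain ⟨yv, rfl⟩ := htop (Submodule.mem_top (x := y))
  refine ⟨algebraMap V K xv / algebraMap V K yv, ?_⟩
  rw [map_div₀]
  exact congrArg (fun z : L => (z : K')) hxy

/-- A tensor product with a separable algebraic extension is a field over a relatively closed subfield. -/
theorem isField_tensor {K E Ω : Type u} [Field K] [Field E] [Field Ω] [Algebra K E] [Algebra K Ω]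
    [Algebra.IsSeparable K Ω]
    (hclosed : ∀ α : E, IsSeparable K α → α ∈ Set.range (algebraMap K E)) : IsField (E ⊗[K] Ω) := by
  classical
  have hmin : ∀ θ : Ω, Irreducible ((minpoly K θ).map (algebraMap K E)) := fun θ => by
    have hsep : IsSeparable K θ := Algebra.IsSeparable.isSeparable K θ
    have hm : (minpoly K θ).Monic := minpoly.monic hsep.isIntegral
    refine (Polynomial.irreducible_of_monic (hm.map _) ?_).2 fun f g hf hg hfg => ?_
    · intro h
      have := congrArg natDegree h
      rw [natDegree_map, natDegree_one] at this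
      exact (minpoly.natDegree_pos hsep.isIntegral).ne' this
    · let Ē := AlgebraicClosure E
      have hlift : ∀ q : E[X], q.Monic → q ∣ (minpoly K θ).map (algebraMap K E) →
          ∃ q₀ : K[X], q₀.map (algebraMap K E) = q := fun q hq hdvd => by
        refine (Polynomial.mem_lifts q).1 ((lifts_iff_coeff_lifts q).2 fun i => hclosed _ ?_)
        have hmem : algebraMap E Ē (q.coeff i) ∈ separableClosure K Ē := by
          rw [← coeff_map]
          have hspl : (q.map (algebraMap E Ē)).Splits := IsAlgClosed.splits _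
          have hlf : (q.map (algebraMap E Ē)) ∈ Polynomial.lifts (separableClosure K Ē).val.toRingHom := by
            rw [hspl.eq_prod_roots_of_monic (hq.map _), Polynomial.lifts_iff_liftsRing]
            refine multiset_prod_mem _ fun c hc => ?_
            obtain ⟨r, hr, rfl⟩ := Multiset.mem_map.1 hc
            refine sub_mem ((Polynomial.lifts_iff_liftsRing _ _).1 (Polynomial.X_mem_lifts _)) ((Polynomial.lifts_iff_liftsRing _ _).1 (Polynomial.C'_mem_lifts ⟨⟨r, ?_⟩, rfl⟩))
            rw [mem_separableClosure_iff]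
            refine Polynomial.Separable.of_dvd hsep (minpoly.dvd K r ?_)
            obtain ⟨c', hc'⟩ := hdvd
            have h2 := congrArg (fun p => p.map (algebraMap E Ē)) hc'
            simp only [Polynomial.map_mul, Polynomial.map_map, ← IsScalarTower.algebraMap_eq] at h2
            have hr0 : eval r (q.map (algebraMap E Ē)) = 0 := (mem_roots ((hq.map _).ne_zero)).1 hr
            rw [← eval_map_algebraMap, h2, eval_mul, hr0, zero_mul]
          obtain ⟨q₁, hq₁⟩ := (Polynomial.mem_lifts _).1 hlf
          rw [← hq₁, coeff_map]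
          exact (q₁.coeff i).2
        exact IsSeparable.of_algHom (IsScalarTower.toAlgHom K E Ē) (mem_separableClosure_iff.1 hmem)
      obtain ⟨f₀, rfl⟩ := hlift f hf ⟨g, hfg.symm⟩
      obtain ⟨g₀, rfl⟩ := hlift g hg ⟨_, (hfg.symm.trans (mul_comm _ _))⟩
      rw [← Polynomial.map_mul] at hfg
      have h2 := Polynomial.map_injective _ (algebraMap K E).injective hfg
      have hf₀ : f₀.Monic := monic_of_injective (algebraMap K E).injective hf
      have hg₀ : g₀.Monic := monic_of_injective (algebraMap K E).injective hg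
      rcases (minpoly.irreducible hsep.isIntegral).isUnit_or_isUnit h2.symm with h | h
      · exact Or.inl (by rw [hf₀.eq_one_of_isUnit h, Polynomial.map_one])
      · exact Or.inr (by rw [hg₀.eq_one_of_isUnit h, Polynomial.map_one])
  refine ⟨⟨0, 1, zero_ne_one⟩, mul_comm, fun {z} hz => ?_⟩
  obtain ⟨s, hs⟩ := TensorProduct.exists_finset z
  let F₀ := IntermediateField.adjoin K ((s.image Prod.snd : Finset Ω) : Set Ω)
  haveI : FiniteDimensional K F₀ := IntermediateField.finiteDimensional_adjoin fun x _ =>
    (Algebra.IsSeparable.isSeparable K x).isIntegral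
  haveI : Algebra.IsSeparable K F₀ := Algebra.isSeparable_tower_bot_of_isSeparable K F₀ Ω
  obtain ⟨θ, hθ⟩ := Field.exists_primitive_element K F₀
  let σ : F₀ →ₐ[K] AlgebraicClosure E := IsAlgClosed.lift
  let χ : E ⊗[K] F₀ →ₐ[E] AlgebraicClosure E :=
    Algebra.TensorProduct.lift (Algebra.ofId E _) σ fun _ _ => Commute.all _ _
  have hθi : IsIntegral K θ := .of_finite K θ
  have hσθ : IsIntegral E (σ θ) := (hθi.map σ).tower_top
  have hmp : minpoly E (σ θ) = (minpoly K θ).map (algebraMap K E) := by
    refine (minpoly.eq_of_irreducible_of_monic ?_ ?_ ((minpoly.monic hθi).map _)).symm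
    · rw [← minpoly.algHom_eq F₀.val F₀.val.toRingHom.injective θ]
      exact hmin _
    · rw [aeval_map_algebraMap, aeval_algHom_apply, minpoly.aeval, map_zero]
  have hχinj : Function.Injective χ := by
    have hle : (IntermediateField.adjoin E ({σ θ} : Set (AlgebraicClosure E))).toSubalgebra ≤ χ.range := by
      rw [IntermediateField.adjoin_simple_toSubalgebra_of_isAlgebraic hσθ.isAlgebraic, Algebra.adjoin_le_iff]
      rintro _ rfl
      exact ⟨1 ⊗ₜ θ, by simp [χ]⟩
    haveI : FiniteDimensional E χ.range := Module.Finite.range χ.toLinearMap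
    have h1 : Module.finrank E (E ⊗[K] F₀) ≤ Module.finrank E (LinearMap.range χ.toLinearMap) := by
      have h2 := Submodule.finrank_mono (show (IntermediateField.adjoin E ({σ θ} : Set (AlgebraicClosure E))).toSubalgebra.toSubmodule
        ≤ LinearMap.range χ.toLinearMap from hle)
      have h3 : Module.finrank E (E ⊗[K] F₀) = (minpoly E (σ θ)).natDegree := by
        rw [Module.finrank_baseChange, hmp, natDegree_map]
        exact (Field.primitive_element_iff_minpoly_natDegree_eq K θ).1 hθ |>.symm
      rw [h3, ← IntermediateField.adjoin.finrank hσθ]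
      exact h2
    have h4 := χ.toLinearMap.finrank_range_add_finrank_ker
    exact LinearMap.ker_eq_bot.1 (Submodule.finrank_eq_zero.1 (show Module.finrank E (LinearMap.ker χ.toLinearMap) = 0 by omega))
  let ψ : E ⊗[K] F₀ →ₐ[E] E ⊗[K] Ω := Algebra.TensorProduct.map (AlgHom.id E E) F₀.val
  let z₀ : E ⊗[K] F₀ := ∑ p ∈ s.attach, p.1.1 ⊗ₜ (⟨p.1.2, IntermediateField.subset_adjoin K _
    (Finset.mem_image_of_mem _ p.2)⟩ : F₀)
  have hz₀ : ψ z₀ = z := by
    rw [hs, map_sum, ← Finset.sum_attach s (fun p => p.1 ⊗ₜ[K] p.2)]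
    rfl
  haveI : IsDomain (E ⊗[K] F₀) := hχinj.isDomain χ.toRingHom
  have hne : z₀ ≠ 0 := fun h => hz (by rw [← hz₀, h, map_zero])
  obtain ⟨y, hy⟩ := (isField_of_isIntegral_of_isField' (R := E) (S := E ⊗[K] F₀) (Field.toIsField E)).mul_inv_cancel hne
  exact ⟨ψ y, by rw [← hz₀]; exact (map_mul ψ.toRingHom z₀ y).symm.trans ((congrArg ψ.toRingHom hy).trans (map_one ψ.toRingHom))⟩

end NearbyCdLib
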