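import Mathlib

/-!
# Rational function fields are relatively algebraically closed; residual transcendentals
-/

set_option autoImplicit false
set_option linter.all false
set_option maxHeartbeats 1000000

universe u

open IsLocalRing

noncomputable section

namespace NearbyCdLib

theorem eq_C_of_isIntegral {σ : Type*} {k : Type*} [Field k] (p : MvPolynomial σ k) (hp : IsIntegral k p) :
    p = MvPolynomial.C (MvPolynomial.constantCoeff p) := by
  by_contra hne
  set r := p - MvPolynomial.C (MvPolynomial.constantCoeff p) with hr
  have hr0 : r ≠ 0 := sub_ne_zero.2 hne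
  have hri : IsIntegral k r := hp.sub isIntegral_algebraMap
  have hc : (minpoly k r).coeff 0 ≠ 0 := minpoly.coeff_zero_ne_zero hri hr0
  have h1 := congrArg MvPolynomial.constantCoeff (minpoly.aeval k r)
  rw [Polynomial.aeval_def, Polynomial.hom_eval₂, map_zero] at h1
  have h2 : MvPolynomial.constantCoeff r = 0 := by
    rw [hr, map_sub, MvPolynomial.constantCoeff_C, sub_self]
  rw [h2, Polynomial.eval₂_at_zero] at h1
  exact hc (by simpa [MvPolynomial.algebraMap_eq] using h1)

/-- Integral elements of a field generated by fractions of independent elements are constants. -/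
theorem mem_range_of_fractions {σ : Type*} {k E : Type*} [Field k] [Field E] [Algebra k E] (t : σ → E)
    (ht : AlgebraicIndependent k t)
    (hfrac : ∀ z : E, ∃ P Q : MvPolynomial σ k, Q ≠ 0 ∧ z = MvPolynomial.aeval t P / MvPolynomial.aeval t Q)
    (z : E) (hz : IsIntegral k z) : z ∈ Set.range (algebraMap k E) := by
  let L := FractionRing (MvPolynomial σ k)
  let g : L →ₐ[k] E := IsFractionRing.liftAlgHom (K := L) (g := MvPolynomial.aeval t) ht
  have hg : ∀ P, g (algebraMap (MvPolynomial σ k) L P) = MvPolynomial.aeval t P := fun P =>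
    (IsFractionRing.liftAlgHom_apply (K := L) (g := MvPolynomial.aeval t) ht (algebraMap _ L P)).trans
      (IsFractionRing.lift_algebraMap (K := L) _ P)
  obtain ⟨P, Q, hQ, rfl⟩ := hfrac z
  have hQ' : algebraMap (MvPolynomial σ k) L Q ≠ 0 :=
    (map_ne_zero_iff _ (IsFractionRing.injective _ L)).2 hQ
  have hz' : IsIntegral k (algebraMap (MvPolynomial σ k) L P / algebraMap (MvPolynomial σ k) L Q) := by
    refine (isIntegral_algHom_iff g g.toRingHom.injective).1 ?_
    rwa [map_div₀, hg, hg]
  obtain ⟨q, hq⟩ := IsIntegrallyClosed.algebraMap_eq_of_integral (R := MvPolynomial σ k) hz'.tower_top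
  have hqi : IsIntegral k q :=
    (isIntegral_algHom_iff (IsScalarTower.toAlgHom k (MvPolynomial σ k) L) (IsFractionRing.injective _ L)).1
      (by rw [IsScalarTower.toAlgHom_apply, hq]; exact hz')
  have h3 := congrArg g hq
  rw [hg, map_div₀, hg, hg, eq_C_of_isIntegral q hqi, MvPolynomial.aeval_C] at h3
  exact ⟨_, h3⟩

/-- An element both separable and purely inseparable is in the base. -/
theorem mem_range_of_pow {k F E : Type*} [Field k] [Field F] [Field E] [Algebra F E] [Algebra.IsSeparable F E]
    [Algebra k E] (z : E) (q n : ℕ) [ExpChar F q] (c : F) (hc : algebraMap F E c = z ^ q ^ n) :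
    z ∈ Set.range (algebraMap F E) := by
  let L := IntermediateField.adjoin F ({z} : Set E)
  haveI : IsPurelyInseparable F L := (IntermediateField.isPurelyInseparable_adjoin_simple_iff_pow_mem F E q).2 ⟨n, c, hc⟩
  haveI : Algebra.IsSeparable F L := Algebra.isSeparable_tower_bot_of_isSeparable F L E
  obtain ⟨d, hd⟩ := IsPurelyInseparable.surjective_algebraMap_of_isSeparable F L
    (⟨z, IntermediateField.mem_adjoin_simple_self F z⟩ : L)
  exact ⟨d, congrArg Subtype.val hd⟩

end NearbyCdLib
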