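import Groth.Agent.NearbyCdLib.SlopeField
import Groth.Agent.NearbyCdLib.Basic

/-!
# The refined bound on nearby fibres
-/

set_option autoImplicit false
set_option linter.all false
set_option backward.isDefEq.respectTransparency false
set_option backward.isDefEq.respectTransparency.types false
set_option synthInstance.maxHeartbeats 400000
set_option maxHeartbeats 1000000

universe u

open CategoryTheory CategoryTheory.Limits AlgebraicGeometry Opposite IsLocalRing TensorProduct
open Groth.Agent Groth.Agent.EtShLib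

attribute [local instance] EtSliceLib.pullExact

noncomputable section

namespace NearbyCdLib

variable {V : Type u} [CommRing V] {X : Scheme.{u}} (f : X ⟶ Spec (CommRingCat.of V))

/-- Over a closed point, residue degrees measure the dimensions of closures. -/
theorem natCast_le_resTrdeg [IsLocalRing V] [LocallyOfFiniteType f] (x : X) (hx : f.base x = closedPoint V)
    (k : ℕ) (hk : (k : WithBot ℕ∞) ≤ topologicalKrullDim ↥(closure ({x} : Set X))) :
    (k : Cardinal.{u}) ≤ Dual3.resTrdeg f x := by
  let s := Spec.map (CommRingCat.ofHom (residue V))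
  haveI : IsClosedImmersion s := IsClosedImmersion.spec_of_surjective _ residue_surjective
  haveI : IsLocalHom (CommRingCat.ofHom (residue V)).hom := inferInstanceAs (IsLocalHom (residue V))
  have hp : f x = s (closedPoint (ResidueField V)) := hx.trans (Spec_closedPoint (f := CommRingCat.ofHom (residue V))).symm
  obtain ⟨w, hw, -⟩ := Scheme.Pullback.exists_preimage_pullback (f := f) (g := s) x _ hp
  have h1 : Dual3.resTrdeg (pullback.fst f s ≫ f) w = Dual3.resTrdeg (pullback.snd f s ≫ s) w := by
    rw [pullback.condition]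
  rw [AlgSpLib.resTrdeg_comp (pullback.fst f s) f, AlgSpLib.resTrdeg_comp (pullback.snd f s) s,
    CycPushLib.trdeg_preimmersion_left (pullback.fst f s), CycPushLib.trdeg_preimmersion_left s,
    add_zero, zero_add, hw] at h1
  obtain ⟨c, hc, hc'⟩ := EtArtinLib.exists_closureDim (pullback.snd f s) w
  have himg : (pullback.fst f s).base '' closure {w} = closure ({x} : Set X) := by
    rw [← (pullback.fst f s).isClosedEmbedding.closure_image_eq, Set.image_singleton, hw]
  let e : ↥(closure ({w} : Set _)) ≃ₜ ↥(closure ({x} : Set X)) :=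
    ((pullback.fst f s).isClosedEmbedding.isEmbedding.homeomorphImage _).trans (Homeomorph.setCongr himg)
  rw [← IsHomeomorph.topologicalKrullDim_eq e e.isHomeomorph, hc] at hk
  rw [h1, hc']
  exact_mod_cast (show k ≤ c by exact_mod_cast hk)

variable {K Ω : Type u} [IsDomain V] [Field K] [Algebra V K] [IsFractionRing V K]
  [Field Ω] [Algebra K Ω] [Algebra V Ω] [IsScalarTower V K Ω]

/-- Residue degrees on fibres of strictly local schemes over the geometric generic point. -/
theorem resTrdeg_nearby_le [LocallyOfFiniteType f] {n : ℕ}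
    (hn : topologicalKrullDim ↥(pullback f (Spec.map (CommRingCat.ofHom (algebraMap V K)))) ≤ n)
    (x : X) (R : Type u) [CommRing R] [IsLocalRing R] [Algebra (X.presheaf.stalk x) R]
    [IsLocalHom (algebraMap (X.presheaf.stalk x) R)] [Hensel.IsStrictHenselization (X.presheaf.stalk x) R]
    (z : ↑(pullback (Hens2.specOf X x R ≫ f) (Spec.map (CommRingCat.ofHom (algebraMap V Ω))))) :
    Dual3.resTrdeg (pullback.snd (Hens2.specOf X x R ≫ f) (Spec.map (CommRingCat.ofHom (algebraMap V Ω)))) z ≤ n := by
  let v := Spec.map (CommRingCat.ofHom (algebraMap V Ω))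
  have hv : v = Spec.map (CommRingCat.ofHom (algebraMap K Ω)) ≫ Spec.map (CommRingCat.ofHom (algebraMap V K)) := by
    rw [← Spec.map_comp, ← CommRingCat.ofHom_comp, ← IsScalarTower.algebraMap_eq V K Ω]
  refine (FlatDimLib.resTrdeg_snd_le z).trans ?_
  rw [AlgSpLib.resTrdeg_comp (Hens2.specOf X x R) f, EtArtinLib.resTrdeg_specOf, add_zero]
  refine resTrdeg_le_of_generic f hn _
    ⟨Spec.map (CommRingCat.ofHom (algebraMap K Ω)) (pullback.snd (Hens2.specOf X x R ≫ f) v z), ?_⟩
  rw [← Scheme.Hom.comp_apply, ← hv, ← Scheme.Hom.comp_apply, ← Scheme.Hom.comp_apply,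
    ← Scheme.Hom.comp_apply, pullback.condition]

/-- Refined bound: a point with residue degree `k` lowers the cohomological dimension by `k`. -/
theorem cdK_slope [IsDiscreteValuationRing V] [HenselianLocalRing V] [IsSepClosed (ResidueField V)]
    [IsSepClosure K Ω] [LocallyOfFiniteType f] {n : ℕ}
    (hn : topologicalKrullDim ↥(pullback f (Spec.map (CommRingCat.ofHom (algebraMap V K)))) ≤ n)
    (x : X) (hx : f.base x = closedPoint V) (k : ℕ) (hkn : k ≤ n) (hk : (k : Cardinal.{u}) ≤ Dual3.resTrdeg f x)
    (R : Type u) [CommRing R] [IsLocalRing R] [Algebra (X.presheaf.stalk x) R]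
    [IsLocalHom (algebraMap (X.presheaf.stalk x) R)] [Hensel.IsStrictHenselization (X.presheaf.stalk x) R]
    {l : ℕ} (hl : l.Prime) (hu : (l : ResidueField V) ≠ 0) :
    CdFieldLib.CdK (pullback (Hens2.specOf X x R ≫ f) (Spec.map (CommRingCat.ofHom (algebraMap V Ω)))) l (n - k) := by
  obtain ⟨φ, hφ⟩ := Spec.map_surjective (X.fromSpecStalk x ≫ f)
  have hcl : Spec.map φ (closedPoint (X.presheaf.stalk x)) = closedPoint V := by
    rw [hφ, Scheme.Hom.comp_apply, Scheme.fromSpecStalk_closedPoint]
    exact hx
  haveI : IsLocalHom φ.hom := ((IsLocalRing.local_hom_TFAE φ.hom).out 4 0).1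
    (congrArg PrimeSpectrum.asIdeal hcl)
  letI : Algebra V R := ((algebraMap (X.presheaf.stalk x) R).comp φ.hom).toAlgebra
  have hdeg : @Algebra.trdeg (ResidueField V) (ResidueField (X.presheaf.stalk x)) _ _
      (ResidueField.map φ.hom).toAlgebra = Dual3.resTrdeg f x := by
    let g : CommRingCat.of V ⟶ CommRingCat.of (ResidueField (X.presheaf.stalk x)) :=
      CommRingCat.ofHom ((residue ↑(X.presheaf.stalk x)).comp φ.hom)
    let pt : ↥(Spec (CommRingCat.of (ResidueField (X.presheaf.stalk x)))) := closedPoint _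
    have e1 : Spec.map g = X.fromSpecResidueField x ≫ f := by
      show Spec.map (φ ≫ X.residue x) = _
      rw [Spec.map_comp, hφ]
      rfl
    have e2 : Spec.map g = Spec.map (CommRingCat.ofHom (ResidueField.map φ.hom)) ≫
        Spec.map (CommRingCat.ofHom (residue V)) := by
      rw [← Spec.map_comp, ← CommRingCat.ofHom_comp]
      exact congrArg (fun r => Spec.map (CommRingCat.ofHom r)) (RingHom.ext fun v => (ResidueField.map_residue φ.hom v).symm)
    haveI : IsClosedImmersion (Spec.map (CommRingCat.ofHom (residue V))) :=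
      IsClosedImmersion.spec_of_surjective _ residue_surjective
    have h1 : Dual3.resTrdeg (X.fromSpecResidueField x ≫ f) pt =
        Dual3.resTrdeg (Spec.map (CommRingCat.ofHom (ResidueField.map φ.hom)) ≫
          Spec.map (CommRingCat.ofHom (residue V))) pt := by rw [← e1, e2]
    rw [AlgSpLib.resTrdeg_comp (X.fromSpecResidueField x), AlgSpLib.resTrdeg_comp
      (Spec.map (CommRingCat.ofHom (ResidueField.map φ.hom))), CycPushLib.trdeg_preimmersion_left
      (X.fromSpecResidueField x), CycPushLib.trdeg_preimmersion_left (Spec.map (CommRingCat.ofHom (residue V))),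
      EdFibLib.resTrdeg_spec, add_zero, zero_add, Scheme.fromSpecResidueField_apply] at h1
    exact h1.symm
  obtain ⟨M, _, i, j, hji, hM, hcd⟩ := exists_field (K := K) (Ω := Ω) φ.hom R rfl k (hdeg ▸ hk) l hl hu
  let S := R ⊗[V] Ω
  have e3 : Spec.map (CommRingCat.ofHom (algebraMap V R)) = Hens2.specOf X x R ≫ f := by
    show Spec.map (φ ≫ CommRingCat.ofHom (algebraMap (X.presheaf.stalk x) R)) = _
    rw [Spec.map_comp, hφ, Category.assoc]
  let w : pullback (Hens2.specOf X x R ≫ f) (Spec.map (CommRingCat.ofHom (algebraMap V Ω))) ≅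
      Spec (CommRingCat.of S) := pullback.congrHom e3.symm rfl ≪≫ pullbackSpecIso V R Ω
  let ψ := w.hom ≫ Spec.map (CommRingCat.ofHom j)
  have hψ : ψ ≫ Spec.map (CommRingCat.ofHom i) =
      pullback.snd (Hens2.specOf X x R ≫ f) (Spec.map (CommRingCat.ofHom (algebraMap V Ω))) := by
    show (w.hom ≫ _) ≫ _ = _
    refine (Category.assoc w.hom _ _).trans ?_
    rw [← Spec.map_comp, ← CommRingCat.ofHom_comp, hji]
    refine (Category.assoc (pullback.congrHom e3.symm rfl).hom (pullbackSpecIso V R Ω).hom _).trans ?_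
    refine (congrArg (fun q => (pullback.congrHom e3.symm rfl).hom ≫ q) (pullbackSpecIso_hom_snd V R Ω)).trans ?_
    simp
  haveI : IsAffine (pullback (Hens2.specOf X x R ≫ f) (Spec.map (CommRingCat.ofHom (algebraMap V Ω)))) :=
    IsAffine.of_isIso w.hom
  refine (cdK_algebra (EtArtinLib.artin (n - k)) M hl.pos hcd ψ fun z => ?_).mono (by omega)
  refine (EtArtinLib.resTrdeg_le_of_tower i ψ (n := n) (w := z) hM ?_).2 (by omega)
  rw [hψ]
  exact resTrdeg_nearby_le f hn x R z

end NearbyCdLib
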