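import Groth.Agent.NearbyCdLib.Div
import Groth.Agent.NearbyCdLib.Rational
import Groth.Agent.NearbyCdLib.CdK
import Groth.Agent.DvrProperLib.GeomConn
import Groth.Agent.RetrRatLib.Algebra

/-!
# A large field of `l`-cohomological dimension zero inside nearby fibres
-/

set_option autoImplicit false
set_option linter.all false
set_option synthInstance.maxHeartbeats 400000
set_option maxHeartbeats 4000000

universe u

open IsLocalRing TensorProduct AlgebraicGeometry
open Groth.Agent

noncomputable section

namespace NearbyCdLib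

theorem aeval_cyclotomic_of_isPrimitiveRoot {F : Type u} [Field F] {z : F} {n : ℕ} (h : IsPrimitiveRoot z n)
    (hn : 0 < n) : Polynomial.aeval z (Polynomial.cyclotomic n ℤ) = 0 := by
  rw [Polynomial.aeval_def, ← Polynomial.eval_map, Polynomial.map_cyclotomic]
  exact h.isRoot_cyclotomic hn

theorem exists_field {V K Ω : Type u} [CommRing V] [IsDomain V] [IsDiscreteValuationRing V] [HenselianLocalRing V]
    [IsSepClosed (ResidueField V)] [Field K] [Algebra V K] [IsFractionRing V K] [Field Ω] [Algebra K Ω]
    [IsSepClosure K Ω] [Algebra V Ω] [IsScalarTower V K Ω]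
    {O : Type u} [CommRing O] [IsLocalRing O] (φ0 : V →+* O) [IsLocalHom φ0]
    (Osh : Type u) [CommRing Osh] [IsLocalRing Osh] [Algebra O Osh] [IsLocalHom (algebraMap O Osh)]
    [Hensel.IsStrictHenselization O Osh] [Algebra V Osh] (hVO : algebraMap V Osh = (algebraMap O Osh).comp φ0)
    (k : ℕ) (hk : (k : Cardinal.{u}) ≤
      @Algebra.trdeg (ResidueField V) (ResidueField O) _ _ (ResidueField.map φ0).toAlgebra)
    (l : ℕ) (hl : l.Prime) (hu : (l : ResidueField V) ≠ 0) :
    ∃ (M : Type u) (_ : Field M) (i : Ω →+* M) (j : M →+* Osh ⊗[V] Ω),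
      j.comp i = (Algebra.TensorProduct.includeRight : Ω →ₐ[V] Osh ⊗[V] Ω).toRingHom ∧
      (k : Cardinal.{u}) ≤ @Algebra.trdeg Ω M _ _ i.toAlgebra ∧
      CdFieldLib.CdK (Spec (CommRingCat.of M)) l 0 := by
  classical
  letI : Algebra (ResidueField V) (ResidueField O) := (ResidueField.map φ0).toAlgebra
  obtain ⟨π, hπ⟩ := IsDiscreteValuationRing.exists_irreducible V
  -- residual transcendentals
  obtain ⟨s, hs⟩ := exists_isTranscendenceBasis' (ResidueField V) (ResidueField O)
  obtain ⟨x, hx⟩ := hs
  have hcard : (k : Cardinal.{u}) ≤ Cardinal.mk s := by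
    have := hx.cardinalMk_eq_trdeg
    rwa [this]
  obtain ⟨em⟩ : Nonempty (ULift.{u} (Fin k) ↪ s) := by
    rw [← Cardinal.le_def]
    simpa using hcard
  let e : Fin k → s := fun i => em ⟨i⟩
  have he : Function.Injective e := fun a b h => congrArg ULift.down (em.injective h)
  have hind : AlgebraicIndependent (ResidueField V) (x ∘ e) := hx.1.comp e he
  choose t ht using fun i => residue_surjective (R := O) ((x ∘ e) i)
  -- the discrete valuation ring
  let g0 : MvPolynomial (Fin k) V →+* O := MvPolynomial.eval₂Hom φ0 t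
  let rb : MvPolynomial (Fin k) V →+* MvPolynomial (Fin k) (ResidueField V) := MvPolynomial.map (residue V)
  have hcomp : (residue O).comp g0 = (MvPolynomial.aeval (x ∘ e)).toRingHom.comp rb := by
    refine MvPolynomial.ringHom_ext (fun v => ?_) fun i => ?_
    · simp [g0, rb, RingHom.algebraMap_toAlgebra]
    · simp [g0, rb, ht]
  let q : Ideal (MvPolynomial (Fin k) V) := RingHom.ker ((residue O).comp g0)
  haveI hqp : q.IsPrime := RingHom.ker_isPrime _
  have hq : q = Ideal.span {MvPolynomial.C π} := by
    show RingHom.ker ((residue O).comp g0) = _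
    rw [hcomp, RingHom.ker_comp_of_injective _ hind, MvPolynomial.ker_map, ker_residue, hπ.maximalIdeal_eq,
      Ideal.map_span, Set.image_singleton]
  have hCπ : (MvPolynomial.C π : MvPolynomial (Fin k) V) ≠ 0 := fun h => hπ.ne_zero (by
    simpa using congrArg MvPolynomial.constantCoeff h)
  let A := Localization.AtPrime q
  haveI : IsDiscreteValuationRing A := RetrRatLib.isDVR_of_principal q hCπ hq
  have hAm : maximalIdeal A = Ideal.span {algebraMap (MvPolynomial (Fin k) V) A (MvPolynomial.C π)} := by
    rw [← Localization.AtPrime.map_eq_maximalIdeal]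
    exact (congrArg (Ideal.map (algebraMap _ A)) hq).trans (by rw [Ideal.map_span, Set.image_singleton])
  let gsh : MvPolynomial (Fin k) V →+* Osh := (algebraMap O Osh).comp g0
  have hunit : ∀ y : q.primeCompl, IsUnit (gsh y) := fun y =>
    (((residue_ne_zero_iff_isUnit _).1 fun h => y.2 h).map (algebraMap O Osh))
  let gA : A →+* Osh := IsLocalization.lift hunit
  have hgA : ∀ y, gA (algebraMap _ A y) = gsh y := fun y => IsLocalization.lift_eq hunit y
  haveI : IsLocalHom gA := ⟨fun a ha => by
    obtain ⟨y, w, rfl⟩ := IsLocalization.exists_mk'_eq q.primeCompl a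
    refine (IsLocalization.AtPrime.isUnit_mk'_iff A q y w).2 fun hy => ?_
    have h1 : gA (IsLocalization.mk' A y w) * gsh w = gsh y := by
      rw [← hgA, ← map_mul, IsLocalization.mk'_spec, hgA]
    have h2 : IsUnit (g0 y) := isUnit_of_map_unit (algebraMap O Osh) _ (h1 ▸ ha.mul (hunit w))
    exact (residue_ne_zero_iff_isUnit _).2 h2 (hy : y ∈ q)⟩
  -- its strict henselization
  let V2 := HenselLib.SH A
  have hS : Hensel.IsStrictHenselization A V2 := inferInstance
  haveI := hS.henselian
  haveI : IsSepClosed (ResidueField V2) := hS.isSepClosure.sep_closed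
  haveI : Module.Flat A V2 := HenselLib.flat_hens _
  have hmax : (maximalIdeal A).map (algebraMap A V2) = maximalIdeal V2 := HenselLib.map_maximalIdeal_hens _
  haveI : IsNoetherianRing V2 := HenselLib.isNoetherianRing_of_etCov hmax (HenselLib.etCov_hens _)
  obtain ⟨hdom, hdvr⟩ := DvrProperLib.isDiscreteValuationRing_of_flat (R := A) (B := V2)
    (hmax ▸ maximalIdeal.isMaximal V2)
  haveI := hdom
  haveI := hdvr
  let θ : V →+* V2 := (algebraMap A V2).comp ((algebraMap (MvPolynomial (Fin k) V) A).comp MvPolynomial.C)
  have hθm : maximalIdeal V2 = Ideal.span {θ π} := by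
    rw [← hmax, hAm, Ideal.map_span, Set.image_singleton]
    rfl
  have hθirr : Irreducible (θ π) := (IsDiscreteValuationRing.irreducible_iff_uniformizer _).2 hθm
  haveI : IsLocalHom θ := ((local_hom_TFAE θ).out 2 0).1 (by
    rw [hπ.maximalIdeal_eq, Ideal.map_span, Set.image_singleton, hθm])
  have hθinj : Function.Injective θ := by
    rw [injective_iff_map_eq_zero]
    intro v hv
    by_contra hv0
    obtain ⟨i, w, rfl⟩ := IsDiscreteValuationRing.eq_unit_mul_pow_irreducible hv0 hπ
    rw [map_mul, map_pow] at hv
    exact (mul_ne_zero (w.isUnit.map θ).ne_zero (pow_ne_zero _ hθirr.ne_zero)) hv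
  -- the map to the strictly henselian ring
  have hSO : Hensel.IsStrictHenselization O Osh := inferInstance
  haveI := hSO.henselian
  haveI : IsSepClosed (ResidueField Osh) := hSO.isSepClosure.sep_closed
  letI : Algebra (ResidueField A) (ResidueField Osh) := (ResidueField.map gA).toAlgebra
  haveI : Algebra.IsSeparable (ResidueField A) (ResidueField V2) := hS.isSepClosure.separable
  let τ : ResidueField V2 →ₐ[ResidueField A] ResidueField Osh := IsSepClosed.lift
  obtain ⟨h, ⟨hh, -⟩, -⟩ := hS.universal Osh gA τ.toRingHom (RingHom.ext fun z => τ.commutes z)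
  have hhV : h.comp θ = algebraMap V Osh := RingHom.ext fun v => by
    show h (algebraMap A V2 (algebraMap (MvPolynomial (Fin k) V) A (MvPolynomial.C v))) = _
    rw [← RingHom.comp_apply, hh, hgA, hVO]
    simp [gsh, g0]
  -- the residue fields
  have hres : ∀ z : ResidueField V2, (letI := (ResidueField.map θ).toAlgebra; IsIntegral (ResidueField V) z) →
      z ∈ Set.range (ResidueField.map θ) := fun z hz => by
    letI a1 : Algebra (ResidueField V) (ResidueField V2) := (ResidueField.map θ).toAlgebra
    let θA : V →+* A := (algebraMap (MvPolynomial (Fin k) V) A).comp MvPolynomial.C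
    haveI : IsLocalHom θA := ((local_hom_TFAE θA).out 2 0).1 (by
      rw [hπ.maximalIdeal_eq, Ideal.map_span, Set.image_singleton, hAm]
      rfl)
    letI a2 : Algebra (ResidueField V) (ResidueField A) := (ResidueField.map θA).toAlgebra
    have htow : ∀ c, algebraMap (ResidueField A) (ResidueField V2) (algebraMap (ResidueField V) (ResidueField A) c) =
        algebraMap (ResidueField V) (ResidueField V2) c := fun c => by
      obtain ⟨v, rfl⟩ := residue_surjective c
      rfl
    haveI : IsScalarTower (ResidueField V) (ResidueField A) (ResidueField V2) :=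
      IsScalarTower.of_algebraMap_eq fun c => (htow c).symm
    -- pure inseparability over the residue field
    let L := IntermediateField.adjoin (ResidueField V) ({z} : Set (ResidueField V2))
    haveI : FiniteDimensional (ResidueField V) L := IntermediateField.adjoin.finiteDimensional hz
    obtain ⟨n, c, hc⟩ := IsPurelyInseparable.pow_mem (ResidueField V) (ringExpChar (ResidueField V))
      (⟨z, IntermediateField.mem_adjoin_simple_self (ResidueField V) z⟩ : L)
    haveI : ExpChar (ResidueField A) (ringExpChar (ResidueField V)) :=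
      expChar_of_injective_ringHom (ResidueField.map θA).injective _
    obtain ⟨d, rfl⟩ := mem_range_of_pow (k := ResidueField V) (F := ResidueField A) z (ringExpChar (ResidueField V)) n
      (algebraMap _ _ c) (by rw [htow]; exact congrArg Subtype.val hc)
    have hd : IsIntegral (ResidueField V) d :=
      (isIntegral_algHom_iff (IsScalarTower.toAlgHom (ResidueField V) (ResidueField A) (ResidueField V2))
        (algebraMap (ResidueField A) (ResidueField V2)).injective).1 hz
    let T : Fin k → ResidueField A := fun i => residue A (algebraMap (MvPolynomial (Fin k) V) A (MvPolynomial.X i))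
    have hT : ∀ P : MvPolynomial (Fin k) V, MvPolynomial.aeval T (rb P) = residue A (algebraMap _ A P) := by
      intro P
      refine RingHom.congr_fun (f := (MvPolynomial.aeval T).toRingHom.comp rb)
        (g := (residue A).comp (algebraMap _ A)) ?_ P
      refine MvPolynomial.ringHom_ext (fun v => ?_) fun i => ?_
      · simp [rb, RingHom.algebraMap_toAlgebra, θA]
      · simp [rb, T]
    have hTind : AlgebraicIndependent (ResidueField V) T := by
      rw [algebraicIndependent_iff]
      intro P hP
      obtain ⟨P₀, rfl⟩ := MvPolynomial.map_surjective (residue V) residue_surjective P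
      rw [show (MvPolynomial.map (residue V) P₀) = rb P₀ from rfl, hT, residue_eq_zero_iff] at hP
      have : P₀ ∈ q := (IsLocalization.AtPrime.to_map_mem_maximal_iff A q P₀).1 hP
      rw [hq, Ideal.mem_span_singleton'] at this
      obtain ⟨c', rfl⟩ := this
      rw [map_mul, MvPolynomial.map_C, (residue_eq_zero_iff π).2 hπ.not_isUnit, map_zero, mul_zero]
    obtain ⟨c', hc'⟩ := mem_range_of_fractions T hTind (fun w => by
      obtain ⟨a, rfl⟩ := residue_surjective w
      obtain ⟨P, Q, rfl⟩ := IsLocalization.exists_mk'_eq q.primeCompl a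
      have hQ : residue A (algebraMap _ A (Q : MvPolynomial (Fin k) V)) ≠ 0 :=
        (residue_ne_zero_iff_isUnit _).2 (IsLocalization.map_units A Q)
      refine ⟨rb P, rb Q, fun h0 => hQ (by rw [← hT, h0, map_zero]), ?_⟩
      rw [hT, hT, eq_div_iff hQ, ← map_mul, IsLocalization.mk'_spec]) d hd
    exact ⟨c', by rw [← hc']; exact (htow c').symm⟩
  -- the field
  let K2 := FractionRing V2
  have hθK : Function.Injective ((algebraMap V2 K2).comp θ) :=
    (IsFractionRing.injective V2 K2).comp hθinj
  letI : Algebra K K2 := (IsFractionRing.lift (K := K) hθK).toAlgebra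
  have hKK2 : ∀ v, algebraMap K K2 (algebraMap V K v) = algebraMap V2 K2 (θ v) := fun v =>
    IsFractionRing.lift_algebraMap hθK v
  haveI : Algebra.IsSeparable K Ω := IsSepClosure.separable
  haveI : IsSepClosed Ω := IsSepClosure.sep_closed K
  have hF : IsField (K2 ⊗[K] Ω) := isField_tensor fun α hα =>
    mem_range_of_separable θ hπ hθirr hres hKK2 α hα
  letI : Field (K2 ⊗[K] Ω) := hF.toField
  let M := K2 ⊗[K] Ω
  let i : Ω →+* M := (Algebra.TensorProduct.includeRight : Ω →ₐ[K] M).toRingHom
  let R := Osh ⊗[V] Ω
  let inR : Ω →+* R := (Algebra.TensorProduct.includeRight : Ω →ₐ[V] R).toRingHom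
  let inL : Osh →+* R := Algebra.TensorProduct.includeLeftRingHom
  have hVR : ∀ v, inL (algebraMap V Osh v) = inR (algebraMap V Ω v) := fun v => by
    show algebraMap V Osh v ⊗ₜ[V] (1 : Ω) = (1 : Osh) ⊗ₜ[V] algebraMap V Ω v
    rw [Algebra.algebraMap_eq_smul_one, Algebra.algebraMap_eq_smul_one, smul_tmul]
  have hπR : IsUnit (inL (h (θ π))) := by
    rw [← RingHom.comp_apply h, hhV, hVR, IsScalarTower.algebraMap_apply V K Ω]
    exact ((IsUnit.mk0 _ ((map_ne_zero_iff _ (IsFractionRing.injective V K)).2 hπ.ne_zero)).map
      (algebraMap K Ω)).map inR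
  let h2 : K2 →+* R := IsLocalization.lift (M := nonZeroDivisors V2) (g := inL.comp h) fun y => by
    obtain ⟨m, w, hw⟩ := IsDiscreteValuationRing.eq_unit_mul_pow_irreducible (nonZeroDivisors.ne_zero y.2) hθirr
    rw [hw, map_mul, map_pow]
    exact (w.isUnit.map _).mul (hπR.pow _)
  have hh2 : ∀ y, h2 (algebraMap V2 K2 y) = inL (h y) := fun y => IsLocalization.lift_eq _ y
  letI : Algebra K R := (inR.comp (algebraMap K Ω)).toAlgebra
  have hK : (h2.comp (algebraMap K K2)) = inR.comp (algebraMap K Ω) :=
    IsLocalization.ringHom_ext (nonZeroDivisors V) (RingHom.ext fun v => by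
      show h2 (algebraMap K K2 (algebraMap V K v)) = inR (algebraMap K Ω (algebraMap V K v))
      rw [hKK2, hh2, ← RingHom.comp_apply h, hhV, hVR, IsScalarTower.algebraMap_apply V K Ω])
  let j : M →ₐ[K] R := Algebra.TensorProduct.lift
    ({ h2 with commutes' := fun c => RingHom.congr_fun hK c } : K2 →ₐ[K] R)
    ({ inR with commutes' := fun c => rfl } : Ω →ₐ[K] R) fun _ _ => Commute.all _ _
  refine ⟨M, inferInstance, i, j.toRingHom, RingHom.ext fun w => ?_, ?_, ?_⟩
  · show j ((1 : K2) ⊗ₜ[K] w) = _
    rw [Algebra.TensorProduct.lift_tmul, map_one, one_mul]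
    rfl
  · -- transcendence degree
    letI : Algebra V M := ((algebraMap K M).comp (algebraMap V K)).toAlgebra
    haveI : IsScalarTower V K M := IsScalarTower.of_algebraMap_eq fun _ => rfl
    letI : Algebra Ω M := i.toAlgebra
    haveI : IsScalarTower K Ω M := IsScalarTower.of_algebraMap_eq fun c => (AlgHom.commutes _ c).symm
    let inK : V2 →+* M := (Algebra.TensorProduct.includeLeftRingHom : K2 →+* M).comp (algebraMap V2 K2)
    let inP : MvPolynomial (Fin k) V →+* M := inK.comp ((algebraMap A V2).comp (algebraMap (MvPolynomial (Fin k) V) A))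
    have hinj : Function.Injective inP := fun a b hab => by
      haveI := Module.FaithfullyFlat.of_flat_of_isLocalHom (A := A) (B := V2)
      exact IsLocalization.injective A q.primeCompl_le_nonZeroDivisors (FaithfulSMul.algebraMap_injective A V2
        (IsFractionRing.injective V2 K2 ((Algebra.TensorProduct.includeLeftRingHom : K2 →+* M).injective hab)))
    let T : Fin k → M := fun a => inP (MvPolynomial.X a)
    have hP : (MvPolynomial.aeval T : MvPolynomial (Fin k) V →ₐ[V] M).toRingHom = inP := by
      refine MvPolynomial.ringHom_ext (fun v => ?_) fun a => ?_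
      · show MvPolynomial.aeval T (MvPolynomial.C v) = _
        rw [MvPolynomial.aeval_C]
        show algebraMap K M (algebraMap V K v) = (algebraMap V2 K2 (θ v)) ⊗ₜ[K] (1 : Ω)
        rw [← hKK2]
        rfl
      · simp [T]
    have hTV : AlgebraicIndependent V T := by
      show Function.Injective _
      intro a b h
      exact hinj (by rw [← hP]; exact h)
    haveI : Algebra.IsAlgebraic V K := IsLocalization.isAlgebraic K (nonZeroDivisors V)
    have hTK : AlgebraicIndependent K T := hTV.extendScalars K
    have hTΩ : AlgebraicIndependent Ω T := hTK.extendScalars Ω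
    simpa using hTΩ.lift_cardinalMk_le_trdeg
  · -- cohomological dimension
    have huV : (l : V) ≠ 0 := fun h0 => hu (by rw [← map_natCast (residue V), h0, map_zero])
    have huΩ : (l : Ω) ≠ 0 := fun h0 => huV (by
      refine (map_eq_zero_iff ((algebraMap K Ω).comp (algebraMap V K)) fun a b hab =>
        IsFractionRing.injective V K ((algebraMap K Ω).injective hab)).1 ?_
      rw [map_natCast, h0])
    haveI : NeZero (l : Ω) := ⟨huΩ⟩
    have hu2 : (l : ResidueField V2) ≠ 0 := by
      rw [← map_natCast (ResidueField.map θ)]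
      exact (_root_.map_ne_zero _).2 hu
    obtain ⟨ζ, hζ⟩ := HasEnoughRootsOfUnity.exists_primitiveRoot Ω l
    refine cdK_zero M hl (by rw [← map_natCast i]; exact (_root_.map_ne_zero _).2 huΩ) (i ζ) ?_ fun L _ _ _ _ a => ?_
    · exact aeval_cyclotomic_of_isPrimitiveRoot (hζ.map_of_injective i.injective) hl.pos
    letI : Algebra K2 L := ((algebraMap M L).comp (algebraMap K2 M)).toAlgebra
    haveI : IsScalarTower K2 M L := IsScalarTower.of_algebraMap_eq fun _ => rfl
    haveI : Algebra.IsSeparable K2 M := by
      have htop : separableClosure K2 M = ⊤ := by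
        rw [eq_top_iff]
        rintro z -
        induction z using TensorProduct.induction_on with
        | zero => exact zero_mem _
        | tmul c w =>
          rw [show c ⊗ₜ[K] w = algebraMap K2 M c * i w by
            show c ⊗ₜ[K] w = (c ⊗ₜ[K] (1 : Ω)) * ((1 : K2) ⊗ₜ[K] w)
            rw [Algebra.TensorProduct.tmul_mul_tmul, mul_one, one_mul]]
          refine mul_mem (IntermediateField.algebraMap_mem _ c) (mem_separableClosure_iff.2 ?_)
          exact IsSeparable.tower_top K2 (IsSeparable.map (Algebra.TensorProduct.includeRight : Ω →ₐ[K] M)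
            (Algebra.TensorProduct.includeRight : Ω →ₐ[K] M).toRingHom.injective (Algebra.IsSeparable.isSeparable K w))
        | add a b ha hb => exact add_mem ha hb
      exact (separableClosure.eq_top_iff K2 M).1 htop
    haveI : Algebra.IsSeparable K2 L := Algebra.IsSeparable.trans K2 M L
    refine exists_root_of_separable hl hu2 hθirr (F := K2) (fun s => ?_) (fun s z hz => ?_) a
      (Algebra.IsSeparable.isSeparable K2 a)
    · haveI : NeZero ((l ^ s : ℕ) : Ω) := ⟨by rw [Nat.cast_pow]; exact pow_ne_zero _ huΩ⟩
      obtain ⟨r, hr⟩ := IsSepClosed.exists_pow_nat_eq (algebraMap K Ω (algebraMap V K π)) (l ^ s)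
      refine ⟨algebraMap M L (i r), ?_⟩
      rw [← map_pow, ← map_pow, hr, ← hKK2, IsScalarTower.algebraMap_apply K2 M L]
      congr 1
      exact ((Algebra.TensorProduct.includeRight : Ω →ₐ[K] M).commutes _).trans
        ((Algebra.ofId K2 M).restrictScalars K |>.commutes _).symm
    · haveI : NeZero ((l ^ s : ℕ) : Ω) := ⟨by rw [Nat.cast_pow]; exact pow_ne_zero _ huΩ⟩
      obtain ⟨ξ, hξ⟩ := HasEnoughRootsOfUnity.exists_primitiveRoot Ω (l ^ s)
      have hξL : IsPrimitiveRoot ((algebraMap M L).comp i ξ) (l ^ s) :=
        hξ.map_of_injective ((algebraMap M L).comp i).injective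
      haveI : NeZero (l ^ s) := ⟨pow_ne_zero _ hl.ne_zero⟩
      obtain ⟨n, -, rfl⟩ := hξL.eq_pow_of_pow_eq_one hz
      obtain ⟨r, hr⟩ := IsSepClosed.exists_pow_nat_eq (ξ ^ n) l
      exact ⟨(algebraMap M L).comp i r, by rw [← map_pow, hr, map_pow]⟩

end NearbyCdLib
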